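import Groth.Agent.Surf.K459.ExtDual
import Groth.Agent.Surf.K459.LocFreeKer
import Groth.Agent.Surf.K461.SerreDual
import Groth.Agent.Coherent.K54.RelCoh
import Groth.Agent.Coherent.K290.ExtLF
import Groth.Agent.Variety.K434.Rank
import Groth.Agent.Sga2.PnCoprod
import Groth.Agent.CohDim.K685.ResolAmple
import Groth.Agent.Ega4A.Depth
import Groth.Agent.CycB.CohStalk
import Groth.Agent.S0051
import Groth.Agent.S8908
import Groth.Agent.S1577
import Groth.Agent.S2297
import Groth.Agent.Fga.IntAdd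
import Groth.Prelude.Def_ShStab

/-!
# Vanishing of `Ext²` on a surface

* `reg1_of_isPure` : a coherent module pure of dimension two on an integral surface has depth at least one at the
  closed points;
* `ext_two` : `Ext²(F, G) = 0` if `Hom(G, F ⊗ ω) = 0`, for `F` of depth at least one at the closed points.
-/

set_option autoImplicit false
universe u
open CategoryTheory CategoryTheory.Limits AlgebraicGeometry MonoidalCategory

namespace K340.ExtTwo

open Groth.Agent Groth.Agent.Fga.PicMon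
open scoped Groth.Agent.Dcoh.MonCat

theorem hasReg_of_not_ass {R : Type u} [CommRing R] [IsLocalRing R] [IsNoetherianRing R] {M : Type u}
    [AddCommGroup M] [Module R M] [Module.Finite R M]
    (h : ¬ IsAssociatedPrime (IsLocalRing.maximalIdeal R) M) : K459.PdAlg.HasReg R M := by
  right
  by_contra hcon
  push Not at hcon
  obtain ⟨P, hP, hle⟩ := Ega4A.Depth.exists_associatedPrime_of_forall_not_isSMulRegular (M := M) hcon
  have hPa : IsAssociatedPrime P M := hP
  have : P = IsLocalRing.maximalIdeal R := le_antisymm (IsLocalRing.le_maximalIdeal hPa.isPrime.ne_top) hle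
  exact h (this ▸ hPa)

theorem isCoh_tensorMod {X : Scheme.{u}} {F G : X.Modules} (hF : Coh.IsCoh F) (hG : Coh.IsCoh G) :
    Coh.IsCoh (CohB1.tensorMod F G) := by
  haveI := hF.1
  haveI := hG.1
  exact ⟨(S2297.result F G).1, (S2297.result F G).2 hF.2 hG.2⟩

theorem mono_coker_of_zero {C : Type*} [Category C] [Abelian C] {A B : C} (f : A ⟶ B) (h : f = 0) :
    IsIso (cokernel.π f) := by
  subst h
  infer_instance

theorem support_eq_univ {X : Scheme.{u}} [IsIntegral X] {G : X.Modules} (hcl : IsClosed (CohB1.support G))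
    (h : genericPoint X ∈ CohB1.support G) : CohB1.support G = Set.univ := by
  rw [Set.eq_univ_iff_forall]
  intro x
  exact (genericPoint_specializes x).mem_closed hcl h

theorem reg1_of_isPure {X : Scheme.{u}} [IsIntegral X] [IsLocallyNoetherian X]
    (hdim : topologicalKrullDim X = (2 : ℕ)) {F : X.Modules} (hF : Coh.IsCoh F) (h0 : ¬ IsZero F)
    (hp : ShStab.IsPure X F 2) : K459.LocFreeKer.Reg1 F := by
  obtain ⟨K, hK, hnd, -, -, hemb, -⟩ := S8908.result X F hF
  have hgen : ∀ {G : X.Modules} (ι : G ⟶ F), Mono ι → Coh.IsCoh G → ¬ IsZero G →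
      genericPoint X ∈ CohB1.support G := by
    intro G ι hι hG hG0
    by_contra hη
    have h1 := K434.Rank.dim_support_lt_of_generic hdim hG hη
    rw [hp G ι hι hG hG0] at h1
    exact lt_irrefl _ h1
  have hK0 : IsZero (K : X.Modules) := by
    by_contra hK0
    have h1 := support_eq_univ (Ega3B.Devissage.isClosed_support hK) (hgen K.arrow inferInstance hK hK0)
    have h2 := hnd ⊤ (by rw [h1]; exact Set.subset_univ _)
    rw [TopologicalSpace.Opens.coe_top, Set.univ_inter] at h2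
    exact h0 (CohqB.DevSupport.isZero_of_support_eq_empty h2)
  have hiso : IsIso (cokernel.π K.arrow) := mono_coker_of_zero K.arrow (hK0.eq_zero_of_src _)
  let e : F ≅ cokernel K.arrow := asIso (cokernel.π K.arrow)
  have hQ : Coh.IsCoh (cokernel K.arrow) := Sga67.CohBasic.isCoh_of_iso e hF
  refine K459.LocFreeKer.Reg1.of_mono (cokernel.π K.arrow) (fun x hx => ?_)
  have hfin := CycB.CohStalk.finite_stalk (cokernel K.arrow) hQ x
  refine hasReg_of_not_ass fun hass => ?_
  have hη : Curv2.IsAssPoint (cokernel K.arrow) (genericPoint X) := by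
    refine S1577.result X (cokernel K.arrow) hQ.1 (genericPoint X) ?_ (fun y _ hy => ?_)
    · rw [← CohqB.DevSupport.support_congr e]
      exact hgen (𝟙 F) inferInstance hF h0
    · exact (hy.antisymm (genericPoint_specializes y)).eq
  have hx' := hemb x hass (genericPoint X) hη (genericPoint_specializes x)
  subst hx'
  have h3 : ringKrullDim (X.presheaf.stalk (genericPoint X)) = 0 :=
    ringKrullDim_eq_zero_of_field X.functionField
  rw [h3] at hx
  exact absurd hx (by norm_num)

theorem subsingleton_of_dual (k : Type*) (V : Type*) [Field k] [AddCommGroup V] [Module k V]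
    (h : Subsingleton (Module.Dual k V)) : Subsingleton V := by
  refine ⟨fun a b => sub_eq_zero.1 ?_⟩
  exact (Module.forall_dual_apply_eq_zero_iff k (a - b)).1 fun f => by
    rw [Subsingleton.elim f 0]
    exact LinearMap.zero_apply _

theorem subsingleton_dual (k : Type*) (V : Type*) [Field k] [AddCommGroup V] [Module k V]
    (h : Subsingleton V) : Subsingleton (Module.Dual k V) :=
  ⟨fun f g => LinearMap.ext fun x => by rw [Subsingleton.elim x 0, map_zero, map_zero]⟩

section

variable (k : Type u) [Field k] {X : Scheme.{u}} [X.Over (Spec (CommRingCat.of k))]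
  [IsProper (X ↘ Spec (CommRingCat.of k))]

theorem subsingleton_HH_of_ext {W G : X.Modules} [HasExt.{u} X.Modules]
    [SmoothOfRelativeDimension 2 (X ↘ Spec (CommRingCat.of k))]
    (hW : ExtPow.IsExtPow 2 (Omega.sheaf (X ↘ Spec (CommRingCat.of k))) W) (hG : Coh.IsQCoh G) :
    Subsingleton (Abelian.Ext G W 1) ↔ Subsingleton (Coh.HH X G 1) := by
  obtain ⟨E⟩ := K459.ExtDual.nonempty_ext_dual k X hG 1 1 2 rfl (K461.SerreDual.exists_form k X 2 W hW)
  refine ⟨fun h => ?_, fun h => ?_⟩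
  · exact subsingleton_of_dual k _ E.symm.toEquiv.subsingleton
  · exact @Equiv.subsingleton _ _ E.toEquiv (subsingleton_dual k _ h)

/-- `Ext^i(E, G) = H^i(X, G ⊗ E')` for an exact pairing. -/
theorem ext_iff_HH [HasExt.{u} X.Modules] (E E' : X.Modules) [ExactPairing E E'] [ExactPairing E' E]
    (G : X.Modules) (i : ℕ) :
    Subsingleton (Abelian.Ext E G i) ↔ Subsingleton (Coh.HH X (CohB1.tensorMod G E') i) := by
  obtain ⟨e1⟩ := K53.FlfAdj.nonempty_ext.{u, u} E E' (Coh.structureModule X) G i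
  have l : CohB1.tensorMod (Coh.structureModule X) E ≅ E := (λ_ E : 𝟙_ X.Modules ⊗ E ≅ E)
  let e := (K290.ExtLF.extLeft l.symm G i).trans
    (e1.trans (CurvesC.ExtUnit.extHH (CohB1.tensorMod G E') i))
  exact ⟨fun h => e.symm.toEquiv.subsingleton, fun h => e.toEquiv.subsingleton⟩

/-- `Ext^1(G, W ⊗ E) = H^1(X, G ⊗ E')^*` for an exact pairing. -/
theorem ext_one_iff {W : X.Modules} [HasExt.{u} X.Modules]
    [SmoothOfRelativeDimension 2 (X ↘ Spec (CommRingCat.of k))]
    (hW : ExtPow.IsExtPow 2 (Omega.sheaf (X ↘ Spec (CommRingCat.of k))) W)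
    (E E' : X.Modules) [ExactPairing E E'] [ExactPairing E' E] (G : X.Modules)
    (hG : Coh.IsQCoh (CohB1.tensorMod G E')) :
    Subsingleton (Abelian.Ext G (CohB1.tensorMod E W) 1) ↔
      Subsingleton (Coh.HH X (CohB1.tensorMod G E') 1) := by
  obtain ⟨e1⟩ := K53.FlfAdj.nonempty_ext.{u, u} E' E G W 1
  rw [← subsingleton_HH_of_ext k hW hG]
  let e := e1.trans (K290.ExtLF.extRight G (Ega2.Tens.swap W E) 1)
  exact ⟨fun h => e.toEquiv.subsingleton, fun h => e.symm.toEquiv.subsingleton⟩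

theorem ext_two [SmoothOfRelativeDimension 2 (X ↘ Spec (CommRingCat.of k))]
    (hreg : ∀ x : X, IsRegularLocalRing (X.presheaf.stalk x))
    (hdim : ∀ x : X, ringKrullDim (X.presheaf.stalk x) ≤ 2) {W : X.Modules} (hWi : PicF.IsInvertible W)
    (hW : ExtPow.IsExtPow 2 (Omega.sheaf (X ↘ Spec (CommRingCat.of k))) W)
    {H : X.Modules} (hH : CohB1.IsAmple H) [HasExt.{u} X.Modules] {F G : X.Modules} (hF : Coh.IsCoh F)
    (hFr : K459.LocFreeKer.Reg1 F) (hG : Coh.IsCoh G)
    (hhom : ∀ φ : G ⟶ CohB1.tensorMod F W, φ = 0) : Subsingleton (Abelian.Ext F G 2) := by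
  have hNoeth := Fga.IntAdd.isNoetherian k X
  obtain ⟨n₀, hn₀⟩ := (S0051.result k X (X ↘ Spec (CommRingCat.of k)) H hH.1).1 hH G hG
  obtain ⟨M, hM, ⟨eM⟩⟩ := Grpsch.PicGrp.exists_inverse hH.1
  obtain ⟨E, π, ⟨N, hN, κ, hκ, ⟨eE⟩⟩, hπ⟩ :=
    K685.ResolAmple.exists_negSum hH (M := M) ⟨Ega2.Tens.swap M H ≪≫ eM⟩ n₀ hF
  let P := CohB1.tensorPow M N
  let Q := CohB1.tensorPow H N
  have hP : PicF.IsInvertible P := Fdesc.LocGen.isInvertible_tensorPow hM N
  have cM : mc M * mc H = 1 := by rw [← mc_tensor, ← mc_one]; exact mc_eq (Ega2.Tens.swap M H ≪≫ eM)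
  have ePQ : Nonempty (CohB1.tensorMod P Q ≅ Coh.structureModule X) := by
    rw [← mc_eq_iff, mc_tensor, mc_tensorPow, mc_tensorPow, ← mul_pow, cM, one_pow, mc_one]
  obtain ⟨P', ⟨hp⟩, ⟨i⟩⟩ := K54.RelCoh.exists_pairing hP ePQ.some
  obtain ⟨n, ⟨f⟩⟩ := Finite.exists_equiv_fin κ
  let E0 : X.Modules := ∐ fun _ : Fin n => P
  let E0' : X.Modules := ∐ fun _ : Fin n => P'
  let e0 : E ≅ E0 := eE ≪≫ Sigma.whiskerEquiv (g := fun _ : Fin n => P) f (fun _ => Iso.refl _)
  let hE : ExactPairing E0 E0' :=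
    Dcoh.DualSum.exactPairingCoprod (C := X.Modules) (fun _ : Fin n => P) (fun _ : Fin n => P')
  let hE' : ExactPairing E0' E0 := BraidedCategory.exactPairing_swap E0 E0'
  let π0 : E0 ⟶ F := e0.inv ≫ π
  have hπ0 : Epi π0 := epi_comp _ _
  have hE0 : FlatMod.IsFinLocFree E0 := Sga2.PnCoprod.isFinLocFree_coproduct _ fun _ =>
    K685.ResolAmple.isFinLocFree_of_isInvertible hP
  have hE1 : FlatMod.IsFinLocFree (kernel π0) :=
    K459.LocFreeKer.isFinLocFree_kernel hreg hdim π0 hE0 hF.1 hFr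
  have hE0' : FlatMod.IsFinLocFree E0' := Dcoh.DualFLF.isFinLocFree_dual hE0 E0'
  -- cohomology of `G ⊗ E0'`
  have c1 : ∀ p : ℕ, 0 < p → Subsingleton (Coh.HH X (CohB1.tensorMod G E0') p) := by
    intro p hp'
    let T : X.Modules ⥤ X.Modules := tensorLeft G
    obtain ⟨t⟩ : Nonempty (T.obj (∐ fun _ : Fin n => P') ≅ ∐ fun _ : Fin n => T.obj P') := by
      have : T.Additive := inferInstance
      have : PreservesFiniteCoproducts T := inferInstance
      exact ⟨PreservesCoproduct.iso T _⟩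
    have d : CohB1.tensorMod G E0' ≅ ∐ fun _ : Fin n => CohB1.tensorMod G Q :=
      t ≪≫ Sigma.mapIso fun _ => T.mapIso i
    exact Fga.HShift.subsingleton_of_iso d.symm p
      (Fga.HShift.subsingleton_coproduct _ p fun _ => hn₀ N hN p hp')
  have hq0 : Coh.IsQCoh (CohB1.tensorMod G E0') := (isCoh_tensorMod hG
    (PerfA.CohSerre.isCoh_of_isFinLocFree hE0')).1
  have c2 : Subsingleton (Abelian.Ext E0 G 2) := (ext_iff_HH E0 E0' G 2).2 (c1 2 (by norm_num))
  have c3 : Subsingleton (Abelian.Ext G (CohB1.tensorMod E0 W) 1) :=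
    (ext_one_iff k hW E0 E0' G hq0).2 (c1 1 (by norm_num))
  -- the resolution
  let S : ShortComplex X.Modules := ShortComplex.mk (kernel.ι π0) π0 (kernel.condition π0)
  have hS : S.ShortExact := { exact := ShortComplex.exact_kernel π0 }
  have hST : (S.map (DCoh.tensorRightMod W)).ShortExact := by
    have h := PerfB.TensInv.preservesFiniteLimits_of_isInvertible hWi
    exact hS.map_of_exact (DCoh.tensorRightMod W)
  have c4 : Subsingleton (Abelian.Ext G (CohB1.tensorMod (kernel π0) W) 1) := by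
    refine ⟨fun x y => ?_⟩
    suffices h : ∀ x : Abelian.Ext G (CohB1.tensorMod (kernel π0) W) 1, x = 0 by rw [h x, h y]
    intro x
    obtain ⟨z, hz⟩ := Abelian.Ext.covariant_sequence_exact₁ hST (X := G)
      (show Abelian.Ext G (S.map (DCoh.tensorRightMod W)).X₁ 1 from x)
      (@Subsingleton.elim _ c3 _ _) (n₀ := 0) rfl
    have hz0 : z = 0 := by
      have h0 := hhom (Abelian.Ext.homEquiv₀ z)
      rw [← Abelian.Ext.mk₀_homEquiv₀_apply z]
      exact (congrArg Abelian.Ext.mk₀ h0).trans (Abelian.Ext.mk₀_zero _ _)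
    rw [hz0, Abelian.Ext.zero_comp] at hz
    exact hz.symm
  obtain ⟨E1', hE1', ⟨h1⟩, ⟨h2⟩⟩ := K53.FlfAdj.exists_pairing_symm hE1
  have hq1 : Coh.IsQCoh (CohB1.tensorMod G E1') := (isCoh_tensorMod hG
    (PerfA.CohSerre.isCoh_of_isFinLocFree hE1')).1
  have c5 : Subsingleton (Abelian.Ext (kernel π0) G 1) :=
    (ext_iff_HH (kernel π0) E1' G 1).2 ((ext_one_iff k hW (kernel π0) E1' G hq1).1 c4)
  refine ⟨fun x y => ?_⟩
  suffices h : ∀ x : Abelian.Ext F G 2, x = 0 by rw [h x, h y]
  intro x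
  obtain ⟨z, hz⟩ := Abelian.Ext.contravariant_sequence_exact₃ hS (Y := G)
    (show Abelian.Ext S.X₃ G 2 from x) (@Subsingleton.elim _ c2 _ _) (n₀ := 1) rfl
  have hz0 : z = 0 := @Subsingleton.elim _ c5 _ _
  rw [hz0, Abelian.Ext.comp_zero] at hz
  exact hz.symm

end

end K340.ExtTwo
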