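import Groth.Agent.ShStab.K847.CurveVan
import Groth.Agent.Fga.MultFinal
import Groth.Agent.Fga.TwistCoh
import Groth.Agent.Fga.SnapperTwist
import Groth.Agent.Variety.K434.Rank
import Groth.Agent.Flat2E.FormalLift418
import Groth.Agent.CohqB.FinEngine

/-!
# Homomorphisms between twists of a semistable sheaf on a surface

* `chi_growth` : `χ(L ⊗ H^m ⊗ J) - χ(H^m ⊗ J)` is linear in `m` with slope `(H · L · J)`;
* `hom_eq_zero` : `Hom(F ⊗ N, F ⊗ W) = 0` for `F` semistable of dimension two and `(H · W) < (H · N)`.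
-/

set_option autoImplicit false
universe u
open CategoryTheory CategoryTheory.Limits AlgebraicGeometry Polynomial

namespace K340.SlopeHom

open Groth.Agent Groth.Agent.Fga.PicMon K847.HilbBasic K847.PolyOrd K847.StabBasic StabCat ShStab

variable (k : Type u) [Field k] {X : Scheme.{u}} [X.Over (Spec (CommRingCat.of k))]

/-- The Euler characteristic on isomorphism classes. -/
noncomputable def chi : MC X → ℤ :=
  onCl (fun L => Curv2.euler k X L) (fun _ _ ⟨e⟩ => euler_congr k e)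

theorem chi_mc (L : X.Modules) : chi k (mc L) = Curv2.euler k X L := rfl

variable [IsProper (X ↘ Spec (CommRingCat.of k))] (hdim : topologicalKrullDim X ≤ (2 : ℕ))

include hdim

theorem intNum_one (L G : X.Modules) : FGA.intNum k X 2 ![L] G = chi k (mc G) - chi k (mc L * mc G) := by
  have h := intNum_cons k X 2 L ![] G
  rw [intNum_zero, intNum_zero, Fga.IntAdd.eulerCharLE_eq k X 2 hdim, Fga.IntAdd.eulerCharLE_eq k X 2 hdim] at h
  rw [← mc_tensor, chi_mc, chi_mc]
  exact h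

theorem intNum_two (H L G : X.Modules) : FGA.intNum k X 2 ![H, L] G =
    (chi k (mc L * (mc H * mc G)) - chi k (mc H * mc G)) - (chi k (mc L * mc G) - chi k (mc G)) := by
  have h := intNum_cons k X 2 H ![L] G
  rw [intNum_one k hdim, intNum_one k hdim, mc_tensor] at h
  refine h.trans ?_
  ring

theorem intNum_twist {H L G : X.Modules} (hH : PicF.IsInvertible H) (hL : PicF.IsInvertible L)
    (hG : Coh.IsCoh G) :
    FGA.intNum k X 2 ![H, L] (CohB1.tensorMod H G) = FGA.intNum k X 2 ![H, L] G := by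
  have h := intNum_cons k X 2 H ![H, L] G
  have h0 : FGA.intNum k X 2 (Fin.cons H ![H, L] : Fin 3 → X.Modules) G = 0 := by
    refine S3231.result k X 2 hdim _ (fun i => ?_) G hG ?_
    · fin_cases i
      · exact hH
      · exact hH
      · exact hL
    · refine lt_of_le_of_lt ((dim_support_le G).trans hdim) ?_
      exact_mod_cast (by norm_num : (2 : ℕ) < 3)
  rw [h0] at h
  exact (sub_eq_zero.1 h.symm).symm

theorem chi_growth {H L : X.Modules} (hH : PicF.IsInvertible H) (hL : PicF.IsInvertible L) (m : ℕ) :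
    ∀ G : X.Modules, Coh.IsCoh G → chi k (mc L * (mc H ^ m * mc G)) - chi k (mc H ^ m * mc G) =
      chi k (mc L * mc G) - chi k (mc G) + m * FGA.intNum k X 2 ![H, L] G := by
  induction m with
  | zero =>
    intro G hG
    simp
  | succ m ih =>
    intro G hG
    have h := ih (CohB1.tensorMod H G) (Fga.SnapperTwist.isCoh_tensor' hH hG)
    rw [mc_tensor, intNum_twist k hdim hH hL hG] at h
    have e : mc H ^ (m + 1) * mc G = mc H ^ m * (mc H * mc G) := by rw [pow_succ, mul_assoc]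
    rw [e, h]
    have h2 := intNum_two k hdim H L G
    push_cast
    linarith

omit hdim in
theorem intNum_rank [IsIntegral X] (hdim2 : topologicalKrullDim X = (2 : ℕ)) {G : X.Modules} (hG : Coh.IsCoh G)
    (hη : genericPoint X ∈ CohB1.support G) :
    ∃ r : ℤ, 0 < r ∧ ∀ H L : X.Modules, PicF.IsInvertible H → PicF.IsInvertible L →
      FGA.intNum k X 2 ![H, L] G = r * FGA.intNum k X 2 ![H, L] (Coh.structureModule X) := by
  have hsub : CohB1.support G ⊆ Set.range (𝟙 X : X ⟶ X) := fun x _ => ⟨x, rfl⟩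
  have key := fun (H L : X.Modules) (hH : PicF.IsInvertible H) (hL : PicF.IsInvertible L) =>
    Fga.MultFinal.intNum_eq k X 2 hdim2.le (𝟙 X) (Category.id_comp _) (r := 2) ![H, L]
      (fun i => by fin_cases i; exacts [hH, hL]) hdim2.le G hG hsub
  have h0 : Module.length (X.presheaf.stalk ((𝟙 X : X ⟶ X) (genericPoint X)))
      (G.presheaf.stalk ((𝟙 X : X ⟶ X) (genericPoint X))) ≠ 0 := by
    intro h
    rw [Module.length_eq_zero_iff] at h
    exact hη h
  have h1 := (key (Coh.structureModule X) (Coh.structureModule X) Fdesc.LocGen.isInvertible_structureModule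
    Fdesc.LocGen.isInvertible_structureModule).1
  refine ⟨((Module.length (X.presheaf.stalk ((𝟙 X : X ⟶ X) (genericPoint X)))
      (G.presheaf.stalk ((𝟙 X : X ⟶ X) (genericPoint X)))).toNat : ℤ), ?_, fun H L hH hL => ?_⟩
  · have : (Module.length (X.presheaf.stalk ((𝟙 X : X ⟶ X) (genericPoint X)))
      (G.presheaf.stalk ((𝟙 X : X ⟶ X) (genericPoint X)))).toNat ≠ 0 := by
      rw [Ne, ENat.toNat_eq_zero]
      push Not
      exact ⟨h0, h1⟩
    exact_mod_cast Nat.pos_of_ne_zero this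
  · rw [(key H L hH hL).2]
    congr 1
    refine intNum_congr k X 2 _ _ (fun i => ?_) _
    exact ⟨(Scheme.Modules.pullbackId X).app _⟩

omit [IsProper (X ↘ Spec (CommRingCat.of k))] hdim in
/-- A linear function with negative slope is eventually negative. -/
theorem not_polyLE_aux {p q : ℚ[X]} {c t : ℤ} (ht : t < 0)
    (h : ∀ m : ℕ, q.eval (m : ℚ) - p.eval (m : ℚ) = ((c + m * t : ℤ) : ℚ)) : ¬ PolyLE p q := by
  rintro ⟨N, hN⟩
  have h1 := hN (max N (c.natAbs + 1)) (le_max_left _ _)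
  have h2 := h (max N (c.natAbs + 1))
  have h3 : (0 : ℚ) ≤ ((c + (max N (c.natAbs + 1) : ℕ) * t : ℤ) : ℚ) := by
    rw [← h2]; linarith
  have h4 : (0 : ℤ) ≤ c + (max N (c.natAbs + 1) : ℕ) * t := by exact_mod_cast h3
  have h5 : ((c.natAbs + 1 : ℕ) : ℤ) ≤ ((max N (c.natAbs + 1) : ℕ) : ℤ) := by exact_mod_cast le_max_right _ _
  have h6 : c ≤ (c.natAbs : ℤ) := Int.le_natAbs
  have h7 : ((max N (c.natAbs + 1) : ℕ) : ℤ) * t ≤ ((max N (c.natAbs + 1) : ℕ) : ℤ) * (-1) :=
    mul_le_mul_of_nonneg_left (by omega) (by positivity)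
  push_cast at h5 h7 h4 h6
  linarith

omit hdim in
/-- `Hom(F ⊗ N, F ⊗ W) = 0` for `F` semistable of dimension two and `(H · W) < (H · N)`. -/
theorem hom_eq_zero [IsIntegral X] (hdim2 : topologicalKrullDim X = (2 : ℕ)) {W H N F : X.Modules}
    (hW : PicF.IsInvertible W) (hH : CohB1.IsAmple H) (hN : PicF.IsInvertible N)
    (hlt : FGA.intNum k X 2 ![H, W] (Coh.structureModule X) <
      FGA.intNum k X 2 ![H, N] (Coh.structureModule X))
    (hF : ShStab.IsSemistable k X H F 2) (φ : CohB1.tensorMod F N ⟶ CohB1.tensorMod F W) : φ = 0 := by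
  have hNoeth := Fga.IntAdd.isNoetherian k X
  by_contra hφ
  have hFN : Coh.IsCoh (CohB1.tensorMod F N) := Fga.TwistCoh.isCoh_tensor hF.1 hN
  have hFW : Coh.IsCoh (CohB1.tensorMod F W) := Fga.TwistCoh.isCoh_tensor hF.1 hW
  obtain ⟨W', hW', ⟨eW⟩⟩ := Grpsch.PicGrp.exists_inverse hW
  obtain ⟨N', hN', ⟨eN⟩⟩ := Grpsch.PicGrp.exists_inverse hN
  have cW : mc W * mc W' = 1 := by rw [← mc_tensor, ← mc_one]; exact mc_eq eW
  have cN : mc N * mc N' = 1 := by rw [← mc_tensor, ← mc_one]; exact mc_eq eN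
  let I : X.Modules := Abelian.image φ
  have hI : Coh.IsCoh I := CohqB.FinEngine.isCoh_image φ hFN hFW.1
  have hI0 : ¬ IsZero I := fun h => hφ (by
    rw [← Abelian.image.fac φ, h.eq_zero_of_tgt (Abelian.factorThruImage φ), Limits.zero_comp])
  -- the subobject `I ⊗ W⁻¹` of `F`
  obtain ⟨I1, ι1, hι1, ⟨e1⟩, ⟨e2⟩, -⟩ := K847.TwistSS.exists_mono_of_tensor ⟨eW⟩ (Abelian.image.ι φ)
  have hI1 : Coh.IsCoh I1 :=
    Sga67.CohBasic.isCoh_of_iso e2.symm (K847.TwistSS.isCoh_tensor_right hW' hI)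
  have hI10 : ¬ IsZero I1 := fun hz =>
    hI0 (((K847.TwistSS.isZero_tensor_right_iff ⟨eW⟩ I1).mpr hz).of_iso e1.symm)
  have c1 : mc I1 * mc W = mc I := by rw [← mc_tensor]; exact mc_eq e1
  -- the quotient `I ⊗ N⁻¹` of `F`
  let Φ := K847.TwistSS.equivOfInv eN
  let π0 : Φ.functor.obj F ⟶ I := Abelian.factorThruImage φ
  have hπ0 : Epi π0 := inferInstanceAs (Epi (Abelian.factorThruImage φ))
  let I2 : X.Modules := CohB1.tensorMod I N'
  let π2 : F ⟶ I2 := (Φ.unitIso.app F).hom ≫ Φ.inverse.map π0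
  have hπ2 : Epi π2 := by
    have : Φ.inverse.PreservesEpimorphisms :=
      Functor.preservesEpimorphisms_of_adjunction Φ.symm.toAdjunction
    have h1 : Epi (Φ.inverse.map π0) := Φ.inverse.map_epi π0
    exact @epi_comp _ _ _ _ _ (Φ.unitIso.app F).hom inferInstance (Φ.inverse.map π0) h1
  have hI2 : Coh.IsCoh I2 := K847.TwistSS.isCoh_tensor_right hN' hI
  have hI20 : ¬ IsZero I2 := fun hz =>
    hI0 ((K847.TwistSS.isZero_tensor_right_iff ⟨Ega2.Tens.swap N' N ≪≫ eN⟩ I).mp hz)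
  have c2 : mc I2 = mc I * mc N' := rfl
  -- the common twist
  let J : X.Modules := CohB1.tensorMod I1 N'
  have hJ : Coh.IsCoh J := K847.TwistSS.isCoh_tensor_right hN' hI1
  have cJ : mc J = mc I1 * mc N' := rfl
  have hηJ : genericPoint X ∈ CohB1.support J := by
    rw [K847.TwistSS.support_tensor_right ⟨Ega2.Tens.swap N' N ≪≫ eN⟩ I1]
    by_contra hη
    have h1 := K434.Rank.dim_support_lt_of_generic hdim2 hI1 hη
    rw [hF.2.2.1 I1 ι1 hι1 hI1 hI10] at h1
    exact lt_irrefl _ h1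
  obtain ⟨r, hr, hrk⟩ := intNum_rank k hdim2 hJ hηJ
  obtain ⟨p1, hp1⟩ := exists_hilbPoly k hH.1 hI1
  obtain ⟨p2, hp2⟩ := exists_hilbPoly k hH.1 hI2
  obtain ⟨pF, hpF⟩ := exists_hilbPoly k hH.1 hF.1
  have gW := fun m : ℕ => chi_growth k hdim2.le hH.1 hW m J hJ
  have gN := fun m : ℕ => chi_growth k hdim2.le hH.1 hN m J hJ
  have key : ∀ m : ℕ, p2.eval (m : ℚ) - p1.eval (m : ℚ) =
      (((chi k (mc W * mc J) - chi k (mc N * mc J)) +
        m * (FGA.intNum k X 2 ![H, W] J - FGA.intNum k X 2 ![H, N] J) : ℤ) : ℚ) := by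
    intro m
    have q2 : (chi k (mc W * (mc H ^ m * mc J)) : ℚ) = p2.eval (m : ℚ) := by
      rw [← hp2 m, ← chi_mc]
      congr 2
      change _ = mc (CohB1.tensorMod I2 (CohB1.tensorPow H m))
      rw [mc_tensor I2 (CohB1.tensorPow H m), mc_tensorPow, c2, cJ, ← c1]
      ac_rfl
    have q1 : (chi k (mc N * (mc H ^ m * mc J)) : ℚ) = p1.eval (m : ℚ) := by
      rw [← hp1 m, ← chi_mc]
      congr 2
      change _ = mc (CohB1.tensorMod I1 (CohB1.tensorPow H m))
      rw [mc_tensor I1 (CohB1.tensorPow H m), mc_tensorPow, cJ]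
      have : mc N * (mc H ^ m * (mc I1 * mc N')) = (mc N * mc N') * (mc I1 * mc H ^ m) := by ac_rfl
      rw [this, cN, one_mul]
    rw [← q2, ← q1, ← Int.cast_sub]
    congr 1
    have h1 := gW m
    have h2 := gN m
    linarith
  have ht : FGA.intNum k X 2 ![H, W] J - FGA.intNum k X 2 ![H, N] J < 0 := by
    rw [hrk H W hH.1 hW, hrk H N hH.1 hN, ← mul_sub]
    exact mul_neg_of_pos_of_neg hr (by linarith)
  have hα : alpha 2 p2 = alpha 2 p1 := by
    have h : p2 = p1 + C ((chi k (mc W * mc J) - chi k (mc N * mc J) : ℤ) : ℚ) +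
        C ((FGA.intNum k X 2 ![H, W] J - FGA.intNum k X 2 ![H, N] J : ℤ) : ℚ) * Polynomial.X := by
      refine eq_of_eval_nat fun m => ?_
      have := key m
      rw [eval_add, eval_add, eval_mul, eval_C, eval_C, eval_X]
      push_cast at this ⊢
      linarith
    rw [h, alpha, alpha, coeff_add, coeff_add, coeff_C_mul, coeff_X, coeff_C]
    norm_num
  have hdF := dim_support_eq_of_isPure hF.1 hF.2.1 hF.2.2.1
  have hαF : 0 < alpha 2 pF := alpha_pos k hH hF.1 hdF hpF
  have r1 : RedLE 2 p1 pF := by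
    by_cases hi : IsIso ι1
    · rw [isIso_hilbPoly_eq k ι1 hp1 hpF]
      exact redLE_refl _
    · exact hF.2.2.2 I1 ι1 hι1 hI1 hI10 hi p1 pF hp1 hpF
  have r2 : RedLE 2 pF p2 := K847.CurveVan.redLE_quotient k hH.1 hF π2 hI2 hI20 hpF hp2
  unfold RedLE at r1 r2
  rw [hα] at r2
  exact not_polyLE_aux ht key ((polyLE_smul_iff hαF).1 (polyLE_trans r1 r2))

end K340.SlopeHom
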